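import Mathlib

set_option autoImplicit false
universe u

namespace Groth.Agent.SigArithLib

theorem purity
    {B : Type u} [Fintype B] [DecidableEq B] (B₀ : Finset B) (hB₀ : B₀.card = 3)
    (p : ℕ) (s : ℕ) (hs : 0 < s)
    (m : B → ℕ) (hm : ∀ j, 0 < m j) (hmp : ∀ j, Nat.Coprime (m j) p)
    (σ : Fin s → B → ℚ) (hint : ∀ i j, ∃ h : ℤ, σ i j = (h : ℚ) / (m j : ℚ))
    (hsum : ∀ i, ∑ j, (σ i j - 1) = -2)
    (hfract : ∀ i j, Int.fract (σ i j) = Int.fract ((p : ℚ) ^ (i : ℕ) * σ ⟨0, hs⟩ j))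
    (hne : ∀ i j, σ i j ≠ 1)
    (hB₀min : ∀ j ∈ B₀, (∃ i, ⌊σ i j⌋ = 0) ∧ ∀ i, 0 ≤ ⌊σ i j⌋)
    (hBmin : ∀ j ∉ B₀, (∃ i, ⌊σ i j⌋ = 1) ∧ ∀ i, 1 ≤ ⌊σ i j⌋) :
    (∀ i, ∑ j, Int.fract (σ i j) = 1) ∧ (∀ i j, ⌊σ i j⌋ = if j ∈ B₀ then 0 else 1) := by
  classical
  have hzero : ∀ i j, Int.fract (σ i j) = 0 → ∀ i', Int.fract (σ i' j) = 0 := by
    intro i j hi i'
    obtain ⟨h, hh⟩ := hint ⟨0, hs⟩ j
    have hmq : (m j : ℚ) ≠ 0 := by exact_mod_cast (hm j).ne'
    rw [hfract i j, hh, Int.fract_eq_iff] at hi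
    obtain ⟨-, -, z, hz⟩ := hi
    have hz' : ((p : ℤ) ^ (i : ℕ) * h : ℤ) = z * m j := by
      have : (p : ℚ) ^ (i : ℕ) * h = z * m j := by
        field_simp at hz
        linarith
      exact_mod_cast this
    have hdvd : (m j : ℤ) ∣ h := by
      have hco : IsCoprime (m j : ℤ) ((p : ℤ) ^ (i : ℕ)) := (Nat.isCoprime_iff_coprime.mpr (hmp j)).pow_right
      exact hco.dvd_of_dvd_mul_left ⟨z, by rw [hz']; ring⟩
    obtain ⟨w, hw⟩ := hdvd
    rw [hfract i' j, hh, Int.fract_eq_iff]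
    refine ⟨le_rfl, one_pos, ((p : ℤ) ^ (i' : ℕ) * w), ?_⟩
    rw [hw]; push_cast; field_simp; ring
  let low : B → ℤ := fun j => if j ∈ B₀ then 0 else 1
  have hlow : ∀ i j, low j ≤ ⌊σ i j⌋ := by
    intro i j
    by_cases hj : j ∈ B₀
    · simpa [low, hj] using (hB₀min j hj).2 i
    · simpa [low, hj] using (hBmin j hj).2 i
  have hnint : ∀ i j, j ∉ B₀ → Int.fract (σ i j) ≠ 0 := by
    intro i j hj h0
    obtain ⟨i₀, hi₀⟩ := (hBmin j hj).1
    apply hne i₀ j
    have := Int.floor_add_fract (σ i₀ j)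
    rw [hi₀, hzero i j h0 i₀] at this
    simpa using this.symm
  have hlowsum : ∑ j, low j = (Fintype.card B : ℤ) - 3 := by
    have h1 : ∀ j, low j = 1 - (if j ∈ B₀ then (1 : ℤ) else 0) := by
      intro j; by_cases hj : j ∈ B₀ <;> simp [low, hj]
    simp [h1, Finset.sum_sub_distrib, Finset.sum_ite_mem, hB₀]
  have key : ∀ i, (∑ j, Int.fract (σ i j) = 1) ∧ ∀ j, ⌊σ i j⌋ = low j := by
    intro i
    set D : ℤ := ∑ j, (⌊σ i j⌋ - low j) with hD
    have hDnn : 0 ≤ D := Finset.sum_nonneg (fun j _ => sub_nonneg.mpr (hlow i j))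
    have htot : ∑ j, σ i j = (Fintype.card B : ℚ) - 2 := by
      have := hsum i
      simp [Finset.sum_sub_distrib] at this
      linarith
    have hF : ∑ j, Int.fract (σ i j) = ((1 - D : ℤ) : ℚ) := by
      have h1 : ∑ j, Int.fract (σ i j) = ∑ j, σ i j - ((∑ j, ⌊σ i j⌋ : ℤ) : ℚ) := by
        push_cast
        rw [← Finset.sum_sub_distrib]; exact Finset.sum_congr rfl (fun j _ => rfl)
      have h2 : (∑ j, ⌊σ i j⌋ : ℤ) = D + ((Fintype.card B : ℤ) - 3) := by
        rw [hD, Finset.sum_sub_distrib, hlowsum]; ring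
      rw [h1, htot, h2]; push_cast; ring
    have hFnn : 0 ≤ ∑ j, Int.fract (σ i j) := Finset.sum_nonneg (fun j _ => Int.fract_nonneg _)
    have hD1 : D ≤ 1 := by
      rw [hF] at hFnn
      have : (0 : ℤ) ≤ 1 - D := by exact_mod_cast hFnn
      omega
    rcases (show D = 0 ∨ D = 1 by omega) with h0 | h0
    · refine ⟨by rw [hF, h0]; simp, fun j => ?_⟩
      have := (Finset.sum_eq_zero_iff_of_nonneg (fun j _ => sub_nonneg.mpr (hlow i j))).mp h0 j (Finset.mem_univ j)
      omega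
    · exfalso
      rw [hF, h0] at hFnn
      have hz : ∀ j, Int.fract (σ i j) = 0 := fun j =>
        (Finset.sum_eq_zero_iff_of_nonneg (fun j _ => Int.fract_nonneg _)).mp
          (by rw [hF, h0]; simp) j (Finset.mem_univ j)
      have hall : ∀ j, j ∈ B₀ := fun j => by
        by_contra hj; exact hnint i j hj (hz j)
      have hcard : Fintype.card B = 3 := by
        rw [← hB₀, (Finset.eq_univ_iff_forall.mpr hall), Finset.card_univ]
      have hpos : ∀ j, 0 ≤ ⌊σ i j⌋ - low j := fun j => sub_nonneg.mpr (hlow i j)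
      obtain ⟨j, -, hj⟩ := Finset.exists_ne_zero_of_sum_ne_zero (show ∑ j, (⌊σ i j⌋ - low j) ≠ 0 by rw [← hD, h0]; norm_num)
      have hle : ⌊σ i j⌋ - low j ≤ D := Finset.single_le_sum (fun j _ => hpos j) (Finset.mem_univ j)
      have : ⌊σ i j⌋ = 1 := by
        have := hpos j
        have : low j = 0 := by simp [low, hall j]
        omega
      apply hne i j
      have h := Int.floor_add_fract (σ i j)
      rw [this, hz j] at h
      simpa using h.symm
  exact ⟨fun i => (key i).1, fun i j => (key i).2 j⟩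

theorem display_iterate
    (W : Type u) [CommRing W] (σ : W →+* W) (p : ℕ)
    {M : Type*} [AddCommGroup M] [Module W M]
    (F : M →+ M) (hF : ∀ (w : W) (m : M), F (w • m) = σ w • F m)
    (d c : ℕ) (hd : 0 < d) (hc : 0 < c)
    (a : ℕ → ℕ → W) (e : ℕ → M)
    (h1 : ∀ i : ℕ, 1 ≤ i → i < d → F (e i) = e (i + 1))
    (h2 : F (e d) = (∑ i ∈ Finset.Icc 1 d, a i d • e i) + e (d + 1))
    (h3 : ∀ j : ℕ, d < j → j < d + c →
      F (e j) = (∑ i ∈ Finset.Icc 1 d, ((p : W) * a i j) • e i) + (p : W) • e (j + 1))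
    (h4 : F (e (d + c)) = ∑ i ∈ Finset.Icc 1 d, ((p : W) * a i (d + c)) • e i) :
    (⇑F)^[d + c] (e 1) = ∑ i ∈ Finset.Icc 1 d, ∑ j ∈ Finset.Icc d (d + c),
      ((p : W) ^ (j - d) * (⇑σ)^[d + c - j] (a i j)) • (⇑F)^[d + c + i - j - 1] (e 1) := by
  have hfst : ∀ k, k < d → (⇑F)^[k] (e 1) = e (k + 1) := by
    intro k
    induction k with
    | zero => intro _; rfl
    | succ k ih =>
      intro hk
      rw [Function.iterate_succ_apply', ih (by omega), h1 (k + 1) (by omega) hk]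
  let S : ℕ → M := fun n => ∑ i ∈ Finset.Icc 1 d, ∑ l ∈ Finset.Icc d n,
      ((p : W) ^ (l - d) * (⇑σ)^[n - l] (a i l)) • (⇑F)^[n + i - l - 1] (e 1)
  have hS : ∀ n, d ≤ n → S (n + 1) = F (S n) +
      ∑ i ∈ Finset.Icc 1 d, ((p : W) ^ (n + 1 - d) * a i (n + 1)) • e i := by
    intro n hn
    simp only [S, map_sum, ← Finset.sum_add_distrib]
    refine Finset.sum_congr rfl (fun i hi => ?_)
    rw [Finset.mem_Icc] at hi
    rw [Finset.sum_Icc_succ_top (by omega : d ≤ n + 1)]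
    congr 1
    · refine Finset.sum_congr rfl (fun l hl => ?_)
      rw [Finset.mem_Icc] at hl
      rw [hF, map_mul, map_pow, map_natCast, ← Function.iterate_succ_apply' (⇑σ),
        ← Function.iterate_succ_apply' (⇑F)]
      congr 2
      · rw [show n + 1 - l = (n - l).succ by omega]
      · rw [show n + 1 + i - l - 1 = (n + i - l - 1).succ by omega]
    · rw [show n + 1 - (n + 1) = 0 by omega, show n + 1 + i - (n + 1) - 1 = i - 1 by omega,
        hfst (i - 1) (by omega), show i - 1 + 1 = i by omega]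
      rfl
  have hd0 : (⇑F)^[d] (e 1) = S d + e (d + 1) := by
    conv_lhs => rw [show d = (d - 1) + 1 by omega, Function.iterate_succ_apply', hfst (d - 1) (by omega),
      show d - 1 + 1 = d by omega, h2]
    simp only [S]
    congr 1
    refine Finset.sum_congr rfl (fun i hi => ?_)
    rw [Finset.mem_Icc] at hi
    simp [show d + i - d - 1 = i - 1 by omega, hfst (i - 1) (by omega), show i - 1 + 1 = i by omega]
  have hmain : ∀ k, k < c → (⇑F)^[d + k] (e 1) = S (d + k) + (p : W) ^ k • e (d + k + 1) := by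
    intro k
    induction k with
    | zero => intro _; simpa using hd0
    | succ k ih =>
      intro hk
      rw [← add_assoc, Function.iterate_succ_apply', ih (by omega), map_add, hF, map_pow, map_natCast,
        h3 (d + k + 1) (by omega) (by omega), hS (d + k) (by omega), show d + k + 1 - d = k + 1 by omega,
        smul_add, Finset.smul_sum, smul_smul, ← pow_succ, ← add_assoc]
      congr 2
      exact Finset.sum_congr rfl (fun i _ => by rw [smul_smul, pow_succ, mul_assoc])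
  obtain ⟨k, rfl⟩ : ∃ k, c = k + 1 := ⟨c - 1, by omega⟩
  show (⇑F)^[d + (k + 1)] (e 1) = S (d + (k + 1))
  rw [← add_assoc, Function.iterate_succ_apply', hmain k (by omega), map_add, hF, map_pow, map_natCast,
    add_assoc d k 1, h4, ← add_assoc d k 1, hS (d + k) (by omega), show d + k + 1 - d = k + 1 by omega, Finset.smul_sum]
  congr 1
  exact Finset.sum_congr rfl (fun i _ => by rw [smul_smul, pow_succ, mul_assoc, add_assoc])

end Groth.Agent.SigArithLib
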